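import Groth.Prelude.Def_W4stkalgstUpp
import Groth.Agent.StkBase.Basic
import Mathlib.CategoryTheory.FiberedCategory.Fibered
import Mathlib.CategoryTheory.Localization.CalculusOfFractions
import Mathlib.CategoryTheory.Limits.Shapes.Pullback.IsPullback.Basic
import Mathlib.CategoryTheory.Limits.Shapes.Equalizers
import Mathlib.CategoryTheory.Limits.Preserves.Shapes.Equalizers

/-!
# Right fractions in `u_pp 𝒮` and the fibred category `u_p 𝒮`
-/

set_option autoImplicit false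
set_option backward.isDefEq.respectTransparency false
set_option backward.isDefEq.respectTransparency.types false

universe v₃ u₃ v₂ u₂ v u

open CategoryTheory CategoryTheory.Limits

noncomputable section

namespace Groth.StkUpp

variable {C : Type u} [Category.{v} C] {D : Type u₂} [Category.{v₂} D] (u : C ⥤ D)
  (𝒮 : BasedCategory.{v₃, u₃} C)

/-- A morphism which is strongly cartesian over its image. -/
abbrev Cart {x y : 𝒮.obj} (φ : x ⟶ y) : Prop := 𝒮.p.IsStronglyCartesian (𝒮.p.map φ) φ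

variable {u 𝒮}

theorem exists_factor {x y z : 𝒮.obj} (s : y ⟶ z) (hs : Cart 𝒮 s) (χ : x ⟶ z)
    (g : 𝒮.p.obj x ⟶ 𝒮.p.obj y) (h : g ≫ 𝒮.p.map s = 𝒮.p.map χ) :
    ∃ k : x ⟶ y, 𝒮.p.map k = g ∧ k ≫ s = χ := by
  have : 𝒮.p.IsHomLift (g ≫ 𝒮.p.map s) χ := by rw [h]; infer_instance
  obtain ⟨k, ⟨hk, e⟩, -⟩ := hs.universal_property' g χ
  exact ⟨k, (IsHomLift.fac' 𝒮.p g k).trans (by simp), e⟩

theorem cart_ext {x y z : 𝒮.obj} (s : y ⟶ z) (hs : Cart 𝒮 s) {k k' : x ⟶ y}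
    (h : 𝒮.p.map k = 𝒮.p.map k') (e : k ≫ s = k' ≫ s) : k = k' := by
  have : 𝒮.p.IsHomLift (𝒮.p.map k) k' := by rw [h]; infer_instance
  exact Functor.IsStronglyCartesian.ext 𝒮.p (𝒮.p.map s) s (𝒮.p.map k) e

theorem cart_of {x' x : 𝒮.obj} {R R' : C} (f : R ⟶ R') (φ : x' ⟶ x)
    [h : 𝒮.p.IsStronglyCartesian f φ] : Cart 𝒮 φ := by
  subst_hom_lift 𝒮.p f φ
  assumption

theorem exists_cart [𝒮.p.IsFibered] (x : 𝒮.obj) {R : C} (f : R ⟶ 𝒮.p.obj x) :
    ∃ (x' : 𝒮.obj) (φ : x' ⟶ x) (h : 𝒮.p.obj x' = R),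
      Cart 𝒮 φ ∧ 𝒮.p.map φ = eqToHom h ≫ f := by
  let φ := Functor.IsPreFibered.pullbackMap (p := 𝒮.p) (a := x) rfl f
  refine ⟨_, φ, ?_⟩
  have : 𝒮.p.IsStronglyCartesian f φ := inferInstance
  have h := IsHomLift.domain_eq 𝒮.p f φ
  have e : 𝒮.p.map φ = eqToHom h ≫ f := (IsHomLift.fac' 𝒮.p f φ).trans (by simp)
  exact ⟨h, cart_of f φ, e⟩

theorem uppR_of {a b : Stk.UppObj u 𝒮} {f : a ⟶ b} (h : Cart 𝒮 f.top) [IsIso f.bot] :
    Stk.uppR u 𝒮 f := ⟨h, inferInstance⟩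

variable (u 𝒮)

theorem isMultiplicative_uppR : (Stk.uppR u 𝒮).IsMultiplicative where
  id_mem a := by
    refine ⟨?_, inferInstanceAs (IsIso (𝟙 a.V))⟩
    show 𝒮.p.IsStronglyCartesian (𝒮.p.map (𝟙 a.x)) (𝟙 a.x)
    exact Functor.IsStronglyCartesian.of_isIso 𝒮.p _ _
  comp_mem f g hf hg := by
    have := hf.1
    have := hg.1
    have := hf.2
    have := hg.2
    refine ⟨?_, inferInstanceAs (IsIso (f.bot ≫ g.bot))⟩
    show 𝒮.p.IsStronglyCartesian (𝒮.p.map (f.top ≫ g.top)) (f.top ≫ g.top)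
    rw [𝒮.p.map_comp]
    infer_instance

/-- The class `R` admits a calculus of right fractions. -/
theorem hasRightCalculusOfFractions [𝒮.p.IsFibered]
    [HasLimitsOfShape WalkingCospan C] [PreservesLimitsOfShape WalkingCospan u]
    [HasLimitsOfShape WalkingParallelPair C] [PreservesLimitsOfShape WalkingParallelPair u] :
    (Stk.uppR u 𝒮).HasRightCalculusOfFractions := by
  have := isMultiplicative_uppR u 𝒮
  refine { this with exists_rightFraction := ?_, ext := ?_ }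
  · intro X Y φ
    have hs := φ.hs
    have : IsIso φ.s.bot := hs.2
    let a := 𝒮.p.map φ.f.top
    let b := 𝒮.p.map φ.s.top
    obtain ⟨x', π, h, hπ, eπ⟩ := exists_cart X.x (pullback.fst a b)
    obtain ⟨k, hk, hks⟩ := exists_factor φ.s.top hs.1 (π ≫ φ.f.top) (eqToHom h ≫ pullback.snd a b)
      (by rw [Functor.map_comp, eπ, Category.assoc, Category.assoc, pullback.condition])
    have sq := (IsPullback.of_hasPullback a b).map u
    let φ' : X.V ⟶ u.obj (pullback a b) := sq.lift X.φ (φ.f.bot ≫ inv φ.s.bot ≫ Y.φ) (by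
      rw [φ.f.w, Category.assoc, Category.assoc, φ.s.w, IsIso.inv_hom_id_assoc])
    let X' : Stk.UppObj u 𝒮 := ⟨x', X.V, φ' ≫ u.map (eqToHom h.symm)⟩
    let t : X' ⟶ X := ⟨π, 𝟙 _, by simp [X', φ', eπ, eqToHom_map]⟩
    let g : X' ⟶ Y := ⟨k, φ.f.bot ≫ inv φ.s.bot, by simp [X', φ', hk, eqToHom_map]⟩
    refine ⟨⟨t, ⟨hπ, inferInstanceAs (IsIso (𝟙 _))⟩, g⟩, ?_⟩
    exact Stk.UppObj.hom_ext hks.symm (by simp [t, g, X'])
  · intro X Y Y' f₁ f₂ s hs e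
    have : IsIso s.bot := hs.2
    have eb : f₁.bot = f₂.bot := (cancel_mono s.bot).1 (congrArg Stk.UppObj.Hom.bot e)
    have et : f₁.top ≫ s.top = f₂.top ≫ s.top := congrArg Stk.UppObj.Hom.top e
    let a := 𝒮.p.map f₁.top
    let b := 𝒮.p.map f₂.top
    obtain ⟨x', π, h, hπ, eπ⟩ := exists_cart X.x (equalizer.ι a b)
    have hl := isLimitForkMapOfIsLimit u _ (equalizerIsEqualizer a b)
    let φ' : X.V ⟶ u.obj (equalizer a b) := Fork.IsLimit.lift hl X.φ (by rw [f₁.w, f₂.w, eb])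
    have hφ' : φ' ≫ u.map (equalizer.ι a b) = X.φ := Fork.IsLimit.lift_ι hl
    let X' : Stk.UppObj u 𝒮 := ⟨x', X.V, φ' ≫ u.map (eqToHom h.symm)⟩
    let t : X' ⟶ X := ⟨π, 𝟙 _, by simp [X', eπ, eqToHom_map, hφ']⟩
    refine ⟨X', t, ⟨hπ, inferInstanceAs (IsIso (𝟙 _))⟩, Stk.UppObj.hom_ext ?_ ?_⟩
    · refine cart_ext s.top hs.1 ?_ ?_
      · simp [t, eπ]
        exact congrArg (eqToHom h ≫ ·) (equalizer.condition a b)
      · simp [t, et]
    · simp [t, eb]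

section Fibred

variable [(Stk.uppR u 𝒮).HasRightCalculusOfFractions]

/-- The structure functor of `u_p 𝒮`. -/
abbrev pU : (Stk.uppR u 𝒮).Localization ⥤ D :=
  Localization.Construction.lift (Stk.UppObj.forget u 𝒮) (Stk.uppR_isInvertedBy u 𝒮)

/-- The localisation functor to `u_p 𝒮`. -/
abbrev loc : Stk.UppObj u 𝒮 ⥤ (Stk.uppR u 𝒮).Localization := (Stk.uppR u 𝒮).Q

theorem p_map_loc {a b : Stk.UppObj u 𝒮} (f : a ⟶ b) :
    (pU u 𝒮).map ((loc u 𝒮).map f) = f.bot := by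
  have h := Functor.congr_hom
    (Localization.Construction.fac (Stk.UppObj.forget u 𝒮) (Stk.uppR_isInvertedBy u 𝒮)) f
  simpa using h

theorem exists_loc_obj (a : (Stk.uppR u 𝒮).Localization) : ∃ A, (loc u 𝒮).obj A = a :=
  ⟨(Localization.Construction.objEquiv _).symm a, (Localization.Construction.objEquiv _).apply_symm_apply a⟩

variable {u 𝒮}

/-- A morphism of `u_p 𝒮` is a fraction with the expected component in `D`. -/
theorem exists_fraction {A B : Stk.UppObj u 𝒮} (ψ : (loc u 𝒮).obj B ⟶ (loc u 𝒮).obj A) :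
    ∃ (B' : Stk.UppObj u 𝒮) (s : B' ⟶ B) (h : B' ⟶ A), Stk.uppR u 𝒮 s ∧
      (loc u 𝒮).map s ≫ ψ = (loc u 𝒮).map h ∧ s.bot ≫ (pU u 𝒮).map ψ = h.bot := by
  obtain ⟨F, hF⟩ := Localization.exists_rightFraction (loc u 𝒮) (Stk.uppR u 𝒮) ψ
  have e : (loc u 𝒮).map F.s ≫ ψ = (loc u 𝒮).map F.f := by
    rw [hF]; exact MorphismProperty.RightFraction.map_s_comp_map _ _ _
  refine ⟨F.X', F.s, F.f, F.hs, e, ?_⟩
  have := congrArg (pU u 𝒮).map e
  rwa [Functor.map_comp, p_map_loc, p_map_loc] at this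

/-- A morphism of `R` is an isomorphism in `u_p 𝒮`. -/
theorem isIso_loc_map {A B : Stk.UppObj u 𝒮} (s : A ⟶ B) (hs : Stk.uppR u 𝒮 s) :
    IsIso ((loc u 𝒮).map s) :=
  Localization.inverts _ (Stk.uppR u 𝒮) _ hs

/-- Morphisms of `u_pp 𝒮` with identity top component become strongly cartesian. -/
theorem existsUnique_factor {A A' B : Stk.UppObj u 𝒮} (π : A' ⟶ A) [IsIso π.top]
    (g : B.V ⟶ A'.V) (ψ : (loc u 𝒮).obj B ⟶ (loc u 𝒮).obj A)
    (h : g ≫ π.bot = (pU u 𝒮).map ψ) :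
    ∃! χ : (loc u 𝒮).obj B ⟶ (loc u 𝒮).obj A',
      (pU u 𝒮).map χ = g ∧ χ ≫ (loc u 𝒮).map π = ψ := by
  obtain ⟨B', s, k, hs, e, eb⟩ := exists_fraction ψ
  have := isIso_loc_map s hs
  have hk : B'.φ ≫ u.map (𝒮.p.map (k.top ≫ inv π.top)) = (s.bot ≫ g) ≫ A'.φ := by
    have h1 := π.w
    rw [Functor.map_comp, Functor.map_comp, ← Category.assoc, k.w, ← eb, ← h]
    simp only [Category.assoc]
    rw [← reassoc_of% h1, ← Functor.map_comp, ← Functor.map_comp, IsIso.hom_inv_id,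
      CategoryTheory.Functor.map_id, CategoryTheory.Functor.map_id, Category.comp_id]
  let k' : B' ⟶ A' := ⟨k.top ≫ inv π.top, s.bot ≫ g, hk⟩
  have hkk : k' ≫ π = k := Stk.UppObj.hom_ext (by simp [k']) (by simp [k', ← eb, h])
  have : IsIso s.bot := hs.2
  refine ⟨inv ((loc u 𝒮).map s) ≫ (loc u 𝒮).map k', ⟨?_, ?_⟩, fun χ hχ => ?_⟩
  · rw [Functor.map_comp, Functor.map_inv, IsIso.inv_comp_eq, p_map_loc, p_map_loc]
  · rw [Category.assoc, IsIso.inv_comp_eq, e, ← Functor.map_comp, hkk]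
  · obtain ⟨B'', s', l, hs', e', eb'⟩ := exists_fraction ((loc u 𝒮).map s ≫ χ)
    have := isIso_loc_map s' hs'
    have : IsIso s'.bot := hs'.2
    have hl : (loc u 𝒮).map (l ≫ π) = (loc u 𝒮).map (s' ≫ k' ≫ π) := by
      rw [hkk, Functor.map_comp, ← e', Category.assoc, Category.assoc, hχ.2, e, Functor.map_comp]
    obtain ⟨B₃, t, ht, et⟩ := (MorphismProperty.map_eq_iff_precomp (loc u 𝒮) (Stk.uppR u 𝒮) _ _).1 hl
    have hlk : t ≫ l = t ≫ s' ≫ k' := by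
      refine Stk.UppObj.hom_ext ?_ ?_
      · have := congrArg Stk.UppObj.Hom.top et
        simp only [Stk.UppObj.comp_top, ← Category.assoc] at this
        simpa [Category.assoc] using (cancel_mono π.top).1 this
      · rw [Functor.map_comp, p_map_loc, hχ.1] at eb'
        simp [k', ← eb']
    have hl' : (loc u 𝒮).map l = (loc u 𝒮).map (s' ≫ k') :=
      (MorphismProperty.map_eq_iff_precomp (loc u 𝒮) (Stk.uppR u 𝒮) _ _).2 ⟨B₃, t, ht, hlk⟩
    rw [← e', Functor.map_comp] at hl'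
    rw [← (cancel_epi ((loc u 𝒮).map s')).1 hl', IsIso.inv_hom_id_assoc]

variable (u 𝒮)

/-- The pullback of an object of `u_pp 𝒮` along a morphism of `D`. -/
abbrev restr (A : Stk.UppObj u 𝒮) {V : D} (f : V ⟶ A.V) : Stk.UppObj u 𝒮 := ⟨A.x, V, f ≫ A.φ⟩

/-- The morphism from the pullback. -/
abbrev restrHom (A : Stk.UppObj u 𝒮) {V : D} (f : V ⟶ A.V) : restr u 𝒮 A f ⟶ A :=
  ⟨𝟙 _, f, by simp⟩

theorem exists_lift (a : (Stk.uppR u 𝒮).Localization) {V : D} (f : V ⟶ (pU u 𝒮).obj a) :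
    ∃ (b : (Stk.uppR u 𝒮).Localization) (φ : b ⟶ a), (pU u 𝒮).IsStronglyCartesian f φ := by
  obtain ⟨A, rfl⟩ := exists_loc_obj u 𝒮 a
  have e : (pU u 𝒮).map ((loc u 𝒮).map (restrHom u 𝒮 A f)) = f := p_map_loc u 𝒮 _
  have : (pU u 𝒮).IsHomLift f ((loc u 𝒮).map (restrHom u 𝒮 A f)) :=
    IsHomLift.of_fac' _ f _ rfl rfl ((Category.comp_id _).trans e.symm |>.symm.trans (by simp))
  refine ⟨_, (loc u 𝒮).map (restrHom u 𝒮 A f), { universal_property' := ?_ }⟩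
  intro c g ψ hψ
  obtain ⟨B, rfl⟩ := exists_loc_obj u 𝒮 c
  have : IsIso (restrHom u 𝒮 A f).top := inferInstanceAs (IsIso (𝟙 A.x))
  have hψ' : (pU u 𝒮).map ψ = g ≫ f :=
    (IsHomLift.fac' (pU u 𝒮) (g ≫ f) ψ).trans (by simp)
  obtain ⟨χ, hχ, huniq⟩ := existsUnique_factor (restrHom u 𝒮 A f) g ψ hψ'.symm
  refine ⟨χ, ⟨IsHomLift.of_fac' _ g _ rfl rfl (hχ.1.trans (by simp)), hχ.2⟩, fun y hy => huniq y ⟨?_, hy.2⟩⟩
  have := hy.1
  exact (IsHomLift.fac' (pU u 𝒮) g y).trans (by simp)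

/-- `u_p 𝒮` is fibred. -/
theorem isFibered_up : (Stk.up u 𝒮).p.IsFibered :=
  show (pU u 𝒮).IsFibered from
    Functor.IsFibered.of_exists_isStronglyCartesian fun a _ f => exists_lift u 𝒮 a f

/-- `u_p 𝒮` is fibred in groupoids if `𝒮` is. -/
theorem isFibGrpd_up (h𝒮 : FibCat.IsFibGrpd 𝒮.p) : FibCat.IsFibGrpd (Stk.up u 𝒮).p := by
  show FibCat.IsFibGrpd (pU u 𝒮)
  refine Groth.StkBase.isFibGrpd_mk (fun {a V} f => ?_) (fun {c b a} φ ψ g hg => ?_)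
  · obtain ⟨b, φ, hφ⟩ := exists_lift u 𝒮 a f
    exact ⟨b, φ, IsHomLift.domain_eq _ f φ, (IsHomLift.fac' _ f φ).trans (by simp)⟩
  · obtain ⟨A, rfl⟩ := exists_loc_obj u 𝒮 a
    obtain ⟨B, rfl⟩ := exists_loc_obj u 𝒮 b
    obtain ⟨C₀, rfl⟩ := exists_loc_obj u 𝒮 c
    obtain ⟨B', s, k, hs, e, eb⟩ := exists_fraction φ
    have := isIso_loc_map s hs
    have : IsIso s.bot := hs.2
    let k₀ : B' ⟶ restr u 𝒮 A k.bot := ⟨k.top, 𝟙 _, by simpa using k.w⟩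
    have hk₀ : Stk.uppR u 𝒮 k₀ :=
      ⟨h𝒮.isStronglyCartesian k.top, inferInstanceAs (IsIso (𝟙 _))⟩
    have := isIso_loc_map k₀ hk₀
    have hkk : k₀ ≫ restrHom u 𝒮 A k.bot = k :=
      Stk.UppObj.hom_ext (Category.comp_id _) (Category.id_comp _)
    let i : (loc u 𝒮).obj B ⟶ (loc u 𝒮).obj (restr u 𝒮 A k.bot) :=
      inv ((loc u 𝒮).map s) ≫ (loc u 𝒮).map k₀
    have : IsIso i := IsIso.comp_isIso
    have hi : φ = i ≫ (loc u 𝒮).map (restrHom u 𝒮 A k.bot) := by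
      rw [Category.assoc, ← Functor.map_comp, hkk, ← e, IsIso.inv_hom_id_assoc]
    have : IsIso (restrHom u 𝒮 A k.bot).top := inferInstanceAs (IsIso (𝟙 A.x))
    have hp : g ≫ (pU u 𝒮).map i ≫ k.bot = (pU u 𝒮).map ψ := by
      rw [← hg, hi, Functor.map_comp (pU u 𝒮) i, p_map_loc]
    obtain ⟨χ, hχ, huniq⟩ := existsUnique_factor (restrHom u 𝒮 A k.bot)
      (g ≫ (pU u 𝒮).map i) ψ ((Category.assoc _ _ _).trans hp)
    refine ⟨χ ≫ inv i, ⟨?_, ?_⟩, fun y hy => ?_⟩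
    · rw [Functor.map_comp, hχ.1, Category.assoc, ← Functor.map_comp, IsIso.hom_inv_id,
        CategoryTheory.Functor.map_id]
      exact Category.comp_id g
    · rw [hi, Category.assoc, IsIso.inv_hom_id_assoc, hχ.2]
    · rw [← huniq (y ≫ i) ⟨by rw [Functor.map_comp, hy.1],
        by rw [Category.assoc, ← hi, hy.2]⟩, Category.assoc, IsIso.hom_inv_id, Category.comp_id]

end Fibred

end Groth.StkUpp
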